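import Cfsg.Agent.Lib.AutCl.QuotAbs
import Cfsg.Agent.Lib.ClGeo.F4
import Cfsg.Agent.Lib.GL.Simple

/-!
Elements of order three in the projective special linear group of degree three over four elements.
-/

set_option autoImplicit false

namespace H67.L34

open Matrix H30 F4 Subgroup
open scoped Pointwise commutatorElement

abbrev S := SpecialLinearGroup (Fin 3) F4
abbrev G := ProjectiveSpecialLinearGroup (Fin 3) F4

def mkS (A : Matrix (Fin 3) (Fin 3) F4) (h : A.det = 1) : S := ⟨A, h⟩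

theorem mk_eq' {F : Type*} [Field F] {A B : SpecialLinearGroup (Fin 3) F} (z : F)
    (h : (A : Matrix (Fin 3) (Fin 3) F) = z • (B : Matrix _ _ F)) :
    (A : ProjectiveSpecialLinearGroup (Fin 3) F) = (B : ProjectiveSpecialLinearGroup (Fin 3) F) := by
  rw [eq_comm, QuotientGroup.eq, Subgroup.mem_center_iff]
  have : ((B⁻¹ * A).1 : Matrix (Fin 3) (Fin 3) F) = z • 1 := by
    change (B⁻¹).1 * A.1 = _
    rw [h, Matrix.mul_smul]
    change z • (B⁻¹ * B).1 = _
    rw [inv_mul_cancel]; rfl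
  intro g
  apply Subtype.ext
  change g.1 * (B⁻¹ * A).1 = (B⁻¹ * A).1 * g.1
  rw [this]
  simp

theorem mk_eq {A B : S} (z : F4) (h : (A : Matrix (Fin 3) (Fin 3) F4) = z • (B : Matrix _ _ F4)) :
    (A : G) = (B : G) := mk_eq' z h

def D : S := mkS !![i, o, o; o, w, o; o, o, v] (by rw [det_fin_three]; decide)
def C : S := mkS !![o, i, o; o, o, i; i, o, o] (by rw [det_fin_three]; decide)

theorem D3 : (D : G) ^ 3 = 1 := by
  rw [← QuotientGroup.mk_pow, ← QuotientGroup.mk_one]
  exact mk_eq 1 (by decide)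

theorem C3 : (C : G) ^ 3 = 1 := by
  rw [← QuotientGroup.mk_pow, ← QuotientGroup.mk_one]
  exact mk_eq 1 (by decide)

theorem DC : Commute (D : G) (C : G) := by
  change _ * _ = _ * _
  rw [← QuotientGroup.mk_mul, ← QuotientGroup.mk_mul]
  exact mk_eq v (by decide)

theorem D_ne : (D : G) ≠ 1 := by
  rw [Ne, QuotientGroup.eq_one_iff, Subgroup.mem_center_iff]
  intro h
  have := congrArg Subtype.val (h C)
  revert this
  decide

theorem conj_aux (a b : ℕ) (g : Matrix (Fin 3) (Fin 3) F4) (hg : g.det = 1) (z : F4)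
    (h : g * ((D ^ a * C ^ b : S) : Matrix (Fin 3) (Fin 3) F4) = z • ((D : Matrix _ _ F4) * g)) :
    IsConj ((D : G) ^ a * (C : G) ^ b) (D : G) := by
  rw [isConj_iff]
  refine ⟨(mkS g hg : G), ?_⟩
  rw [mul_inv_eq_iff_eq_mul, ← QuotientGroup.mk_pow, ← QuotientGroup.mk_pow,
    ← QuotientGroup.mk_mul, ← QuotientGroup.mk_mul, ← QuotientGroup.mk_mul]
  exact mk_eq z h

theorem conj_D (a b : Fin 3) (h : ¬ (a = 0 ∧ b = 0)) :
    IsConj ((D : G) ^ (a : ℕ) * (C : G) ^ (b : ℕ)) (D : G) := by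
  fin_cases a <;> fin_cases b
  · simp at h
  · exact conj_aux 0 1 !![i, i, i; i, v, w; i, w, v] (by rw [det_fin_three]; decide) i (by decide)
  · exact conj_aux 0 2 !![i, i, i; i, w, v; i, v, w] (by rw [det_fin_three]; decide) i (by decide)
  · exact conj_aux 1 0 !![o, o, i; i, o, o; o, i, o] (by rw [det_fin_three]; decide) v (by decide)
  · exact conj_aux 1 1 !![i, i, w; i, v, v; v, i, v] (by rw [det_fin_three]; decide) i (by decide)
  · exact conj_aux 1 2 !![i, i, v; i, w, w; w, i, w] (by rw [det_fin_three]; decide) w (by decide)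
  · exact conj_aux 2 0 !![o, o, i; o, i, o; i, o, o] (by rw [det_fin_three]; decide) w (by decide)
  · exact conj_aux 2 1 !![i, i, v; i, v, i; w, v, v] (by rw [det_fin_three]; decide) i (by decide)
  · exact conj_aux 2 2 !![i, i, w; i, w, i; v, w, w] (by rw [det_fin_three]; decide) v (by decide)

theorem zmod_val {A : Type*} [Group A] (t : A) (ht : t ^ 3 = 1) (x : Multiplicative (ZMod 3)) :
    zmodHom 3 t ht x = t ^ x.toAdd.val := by
  have : x = Multiplicative.ofAdd (((x.toAdd.val : ℕ) : ℤ) : ZMod 3) := by simp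
  conv_lhs => rw [this, zmodHom_int, zpow_natCast]

theorem exists_f {A : Type*} [Group A] {s t : A} (hs : s ^ 3 = 1) (ht : t ^ 3 = 1)
    (h : Commute s t) : ∃ f : Multiplicative (ZMod 3) × Multiplicative (ZMod 3) →* A,
      ∀ x, x ≠ 1 → ∃ a b : Fin 3, ¬ (a = 0 ∧ b = 0) ∧ f x = s ^ (a : ℕ) * t ^ (b : ℕ) := by
  refine ⟨MonoidHom.noncommCoprod (zmodHom 3 _ hs) (zmodHom 3 _ ht) fun x y => by
    rw [zmod_val, zmod_val]; exact h.pow_pow _ _, ?_⟩
  rintro ⟨a, b⟩ hx
  refine ⟨a.toAdd, b.toAdd, fun h => hx ?_, ?_⟩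
  · exact Prod.ext (toAdd_eq_zero.1 h.1) (toAdd_eq_zero.1 h.2)
  · rw [MonoidHom.noncommCoprod_apply, zmod_val, zmod_val]; rfl

theorem card_G : Nat.card G = 20160 := by
  have := H10.card_PSL_fin (F := F4) 3 (by omega)
  rw [natCard_eq, Fin.prod_univ_three] at this
  change _ * (_ * Nat.card G) = _ at this
  generalize Nat.card G = n at this
  norm_num at this
  omega

theorem isConj_D {x : G} (hx : orderOf x = 3) : IsConj x (D : G) := by
  have : Fact (Nat.Prime 3) := ⟨Nat.prime_three⟩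
  obtain ⟨f, hf⟩ := exists_f D3 C3 DC
  have f_conj : ∀ x, x ≠ 1 → IsConj (f x) (D : G) := fun x hx => by
    obtain ⟨a, b, hab, h⟩ := hf x hx
    rw [h]; exact conj_D a b hab
  have f_inj : Function.Injective f := by
    rw [injective_iff_map_eq_one]
    intro x hx
    by_contra hne
    have := f_conj x hne
    rw [hx, isConj_one_right] at this
    exact D_ne this
  have hc : Nat.card f.range = 3 ^ (Nat.card G).factorization 3 := by
    rw [← Nat.card_congr (MonoidHom.ofInjective f_inj).toEquiv, card_G]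
    have : (20160 : ℕ).factorization 3 = 2 := by
      rw [show (20160 : ℕ) = 3 ^ 2 * 2240 by norm_num, Nat.factorization_mul (by norm_num)
        (by norm_num), Nat.Prime.factorization_pow Nat.prime_three]
      simp [Nat.factorization_eq_zero_of_not_dvd]
    rw [this]; simp
  let P := Sylow.ofCard f.range hc
  have hX : IsPGroup 3 (zpowers x) := IsPGroup.of_card (n := 1) (by rw [Nat.card_zpowers, hx]; rfl)
  obtain ⟨Q, hQ⟩ := hX.exists_le_sylow
  obtain ⟨g, hg⟩ := MulAction.exists_smul_eq G Q P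
  have h1 : g * x * g⁻¹ ∈ (P : Subgroup G) := by
    rw [← hg, Sylow.coe_subgroup_smul]
    exact Subgroup.smul_mem_pointwise_smul _ (MulAut.conj g) _ (hQ (mem_zpowers x))
  obtain ⟨y, hy⟩ : g * x * g⁻¹ ∈ f.range := h1
  refine IsConj.trans (isConj_iff.2 ⟨g, hy.symm⟩) (f_conj y ?_)
  rintro rfl
  rw [map_one, eq_comm, mul_inv_eq_one, mul_eq_left] at hy
  rw [hy, orderOf_one] at hx
  omega

theorem isConj_of_three {F : Type*} [Field F] [Fintype F] (hF : Fintype.card F = 4)
    {x y : ProjectiveSpecialLinearGroup (Fin 3) F} (hx : orderOf x = 3) (hy : orderOf y = 3) :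
    IsConj x y := by
  obtain ⟨e⟩ := F4.nonempty_ringEquiv hF
  have h := (isConj_D (((H10.pslCongr e).orderOf_eq x).trans hx)).trans
    (isConj_D (((H10.pslCongr e).orderOf_eq y).trans hy)).symm
  simpa using (H10.pslCongr e).symm.toMonoidHom.map_isConj h

theorem conj_subgroups {F : Type*} [Field F] [Fintype F] (hF : Fintype.card F = 4)
    (X Y : Subgroup (ProjectiveSpecialLinearGroup (Fin 3) F)) (hX : Nat.card X = 3)
    (hY : Nat.card Y = 3) : ∃ g : ProjectiveSpecialLinearGroup (Fin 3) F, MulAut.conj g • X = Y := by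
  have : Fact (Nat.Prime 3) := ⟨Nat.prime_three⟩
  have key : ∀ Z : Subgroup (ProjectiveSpecialLinearGroup (Fin 3) F), Nat.card Z = 3 →
      ∃ z, orderOf z = 3 ∧ Z = zpowers z := fun Z hZ => by
    have : Finite Z := Nat.finite_of_card_ne_zero (by omega)
    obtain ⟨z, hz⟩ := exists_prime_orderOf_dvd_card' (G := Z) 3 (by rw [hZ])
    have hz' : orderOf (z : ProjectiveSpecialLinearGroup (Fin 3) F) = 3 := by
      rw [Subgroup.orderOf_coe, hz]
    refine ⟨z, hz', ?_⟩
    refine (Subgroup.eq_of_le_of_card_ge (zpowers_le_of_mem z.2) ?_).symm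
    rw [hZ, Nat.card_zpowers, hz']
  obtain ⟨x, hx, rfl⟩ := key X hX
  obtain ⟨y, hy, rfl⟩ := key Y hY
  obtain ⟨g, hg⟩ := isConj_iff.1 (isConj_of_three hF hx hy)
  refine ⟨g, ?_⟩
  rw [← hg]
  exact MonoidHom.map_zpowers (MulAut.conj g).toMonoidHom x

theorem nonsplit (F : Type*) [Field F] [Fintype F] (hF : Fintype.card F = 4) :
    Nat.card (center (SpecialLinearGroup (Fin 3) F)) = 3 ∧
    ¬ ∃ K : Subgroup (SpecialLinearGroup (Fin 3) F),
      IsComplement' (center (SpecialLinearGroup (Fin 3) F)) K := by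
  have hc : Nat.card (center (SpecialLinearGroup (Fin 3) F)) = 3 := by
    rw [H10.card_center_SL, Nat.card_eq_fintype_card, hF]; rfl
  refine ⟨hc, ?_⟩
  rintro ⟨K, hK⟩
  have hp := H10.commutator_SL_eq_top_of_three_le (ι := Fin 3) (F := F) (by simp)
  have hle : commutator (SpecialLinearGroup (Fin 3) F) ≤ K := by
    rw [commutator_def, commutator_le]
    intro a _ b _
    obtain ⟨⟨⟨z, hz⟩, ⟨k, hk⟩⟩, rfl⟩ := hK.existsUnique a |>.exists
    obtain ⟨⟨⟨z', hz'⟩, ⟨k', hk'⟩⟩, rfl⟩ := hK.existsUnique b |>.exists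
    have h1 := Subgroup.mem_center_iff.1 hz
    have h2 := Subgroup.mem_center_iff.1 hz'
    have : ⁅z * k, z' * k'⁆ = ⁅k, k'⁆ := by
      simp only [commutatorElement_def, _root_.mul_inv_rev]
      calc z * k * (z' * k') * (k⁻¹ * z⁻¹) * (k'⁻¹ * z'⁻¹)
          = z * (k * z' * (k' * k⁻¹)) * z⁻¹ * k'⁻¹ * z'⁻¹ := by group
        _ = k * k' * k⁻¹ * k'⁻¹ := by
          rw [← h1, mul_inv_cancel_right, h2, mul_assoc z', mul_assoc z', ← h2,
            mul_inv_cancel_right]
          group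
    change ⁅z * k, z' * k'⁆ ∈ K
    rw [this]
    exact K.mul_mem (K.mul_mem (K.mul_mem hk hk') (K.inv_mem hk)) (K.inv_mem hk')
  rw [hp, top_le_iff] at hle
  subst hle
  have := hK.disjoint
  rw [disjoint_top] at this
  rw [this] at hc
  simp at hc

end H67.L34
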